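import Groth.Prelude.Def_CohTop
import Mathlib

/-!
# Subsheaves of the constant sheaf on an irreducible space
-/

set_option autoImplicit false

universe u

namespace Groth.ConstIrr

open CategoryTheory CategoryTheory.Limits TopologicalSpace Opposite

/-- A morphism of sheaves whose sectionwise images lie in those of a sectionwise injective one
factors through it. -/
theorem exists_factor {Y : TopCat.{u}} {A B C : CohTop.Ab Y} (f : A ⟶ C) (g : B ⟶ C)
    (hg : ∀ V, Function.Injective (g.hom.app V)) (h : ∀ V a, ∃ b, g.hom.app V b = f.hom.app V a) :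
    ∃ ψ : A ⟶ B, ψ ≫ g = f := by
  choose l hl using h
  refine ⟨ObjectProperty.homMk
    { app := fun V => AddCommGrpCat.ofHom (AddMonoidHom.mk' (l V) fun a b => hg V
        (by simp [map_add, hl]))
      naturality := fun V W i => by
        ext a
        apply hg W
        change g.hom.app W (l W (A.obj.map i a)) = g.hom.app W (B.obj.map i (l V a))
        rw [hl, NatTrans.naturality_apply f.hom i a, NatTrans.naturality_apply g.hom i, hl] }, ?_⟩
  apply CategoryTheory.Sheaf.hom_ext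
  ext V a
  exact hl V a

variable {X : TopCat.{u}}

/-- The unit into the sheafified constant presheaf. -/
noncomputable def cst (V : Opens X) : ULift.{u} ℤ →+ (CohTop.const X (ULift.{u} ℤ)).obj.obj (op V) :=
  ((CategoryTheory.toSheafify (Opens.grothendieckTopology X)
    ((Functor.const (Opens X)ᵒᵖ).obj (AddCommGrpCat.of (ULift.{u} ℤ)))).app (op V)).hom

theorem cst_res {V W : Opens X} (i : V ⟶ W) (n : ULift.{u} ℤ) :
    (CohTop.const X (ULift.{u} ℤ)).obj.map i.op (cst W n) = cst V n :=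
  (NatTrans.naturality_apply (CategoryTheory.toSheafify (Opens.grothendieckTopology X)
    ((Functor.const (Opens X)ᵒᵖ).obj (AddCommGrpCat.of (ULift.{u} ℤ)))) i.op n).symm

theorem cst_injective {V : Opens X} {x : X} (hx : x ∈ V) : Function.Injective (cst V) := by
  intro a b hab
  have := Presheaf.equalizerSieve_mem (Opens.grothendieckTopology X)
    (CategoryTheory.toSheafify (Opens.grothendieckTopology X)
      ((Functor.const (Opens X)ᵒᵖ).obj (AddCommGrpCat.of (ULift.{u} ℤ)))) a b hab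
  obtain ⟨W, i, hi, -⟩ := this x hx
  exact hi

theorem eq_zero_of_empty {K : CohTop.Ab X} {V : Opens X} (hV : ∀ x, x ∉ V)
    (s : K.obj.obj (op V)) : s = 0 :=
  TopCat.Presheaf.section_ext (C := AddCommGrpCat.{u}) (X := X) K _ _ _ fun x hx => absurd hx (hV x)

theorem exists_cst [IrreducibleSpace X] (V : Opens X)
    (s : (CohTop.const X (ULift.{u} ℤ)).obj.obj (op V)) : ∃ n, cst V n = s := by
  classical
  by_cases hV : ∀ x, x ∉ V
  · exact ⟨0, (eq_zero_of_empty hV _).trans (eq_zero_of_empty hV _).symm⟩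
  simp only [not_forall, not_not] at hV
  obtain ⟨x, hx⟩ := hV
  have hloc : ∀ y ∈ V, ∃ (W : Opens X) (i : W ⟶ V) (n : ULift.{u} ℤ), y ∈ W ∧
      cst W n = (CohTop.const X (ULift.{u} ℤ)).obj.map i.op s := fun y hy => by
    obtain ⟨W, i, ⟨n, hn⟩, hyW⟩ := Presheaf.imageSieve_mem (Opens.grothendieckTopology X)
      (CategoryTheory.toSheafify (Opens.grothendieckTopology X)
        ((Functor.const (Opens X)ᵒᵖ).obj (AddCommGrpCat.of (ULift.{u} ℤ)))) s y hy
    exact ⟨W, i, n, hyW, hn⟩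
  choose W i n hyW hn using hloc
  refine ⟨n x hx, ?_⟩
  refine TopCat.Sheaf.eq_of_locally_eq' (CohTop.const X (ULift.{u} ℤ) : TopCat.Sheaf _ X)
    (fun y : V => W y.1 y.2) V (fun y => i y.1 y.2)
    (fun y hy => Opens.mem_iSup.2 ⟨⟨y, hy⟩, hyW y hy⟩) _ _ fun y => ?_
  have hne : ((W x hx : Set X) ∩ (W y.1 y.2 : Set X)).Nonempty :=
    nonempty_preirreducible_inter (W x hx).2 (W y.1 y.2).2 ⟨x, hyW x hx⟩ ⟨y.1, hyW _ _⟩
  obtain ⟨z, hz⟩ := hne
  have e : n x hx = n y.1 y.2 := by
    refine cst_injective (V := W x hx ⊓ W y.1 y.2) (x := z) hz ?_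
    rw [← cst_res (homOfLE inf_le_left : W x hx ⊓ W y.1 y.2 ⟶ W x hx), hn,
      ← cst_res (homOfLE inf_le_right : W x hx ⊓ W y.1 y.2 ⟶ W y.1 y.2) (n y.1 y.2), hn,
      ← ConcreteCategory.comp_apply, ← ConcreteCategory.comp_apply, ← Functor.map_comp,
      ← Functor.map_comp]
    rfl
  change (CohTop.const X (ULift.{u} ℤ)).obj.map (i y.1 y.2).op (cst V (n x hx)) =
    (CohTop.const X (ULift.{u} ℤ)).obj.map (i y.1 y.2).op s
  rw [cst_res, e, hn]

variable {H : CohTop.Ab X} (ι : H ⟶ CohTop.const X (ULift.{u} ℤ))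

/-- The integers occurring as sections of a subsheaf. -/
noncomputable def ints (V : Opens X) : AddSubgroup (ULift.{u} ℤ) :=
  AddSubgroup.comap (cst V) (AddMonoidHom.range (ι.hom.app (op V)).hom)

theorem ints_mono {V W : Opens X} (i : V ⟶ W) : ints ι W ≤ ints ι V := by
  rintro n ⟨a, ha⟩
  refine ⟨H.obj.map i.op a, ?_⟩
  change ι.hom.app (op V) (H.obj.map i.op a) = cst V n
  rw [NatTrans.naturality_apply ι.hom i.op a, ← cst_res i n]
  exact congrArg _ ha

theorem main [IrreducibleSpace X] [Mono ι] :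
    ∃ (U : Opens X) (d : ℤ), U ≠ ⊥ ∧
      imageSubobject ((CohTop.restrFunctor U).map ι) =
        imageSubobject ((CohTop.restrFunctor U).map (d • 𝟙 (CohTop.const X (ULift.{u} ℤ)))) := by
  obtain ⟨x₀⟩ := (inferInstance : Nonempty X)
  let f : AddSubgroup (ULift.{u} ℤ) → Submodule ℤ ℤ := fun S => AddSubgroup.toIntSubmodule
    (AddSubgroup.comap (AddEquiv.ulift.symm.toAddMonoidHom : ℤ →+ ULift.{u} ℤ) S)
  obtain ⟨m, ⟨U, hU, rfl⟩, hmax⟩ := set_has_maximal_iff_noetherian.2 (inferInstance : IsNoetherian ℤ ℤ)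
    {m | ∃ V : Opens X, (∃ x, x ∈ V) ∧ m = f (ints ι V)} ⟨_, ⊤, ⟨x₀, trivial⟩, rfl⟩
  obtain ⟨d, hd⟩ := Submodule.IsPrincipal.principal (f (ints ι U))
  have key : ∀ (V : Opens X), (∃ x, x ∈ V) → V ≤ U → ∀ n : ℤ,
      (⟨n⟩ : ULift.{u} ℤ) ∈ ints ι V ↔ ∃ k : ℤ, k * d = n := by
    intro V hV hVU n
    have hle : f (ints ι U) ≤ f (ints ι V) := fun a ha => ints_mono ι (homOfLE hVU) ha
    have heq : f (ints ι V) = f (ints ι U) :=
      (not_lt_iff_le_imp_ge.1 (hmax _ ⟨V, hV, rfl⟩) hle).antisymm hle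
    refine (show n ∈ f (ints ι V) ↔ _ from ?_)
    rw [heq, hd, Submodule.mem_span_singleton]
    simp only [smul_eq_mul]
  refine ⟨U, d, fun h => ?_, ?_⟩
  · obtain ⟨x, hx⟩ := hU
    rw [h] at hx
    exact hx
  have hinjι : ∀ V, Function.Injective (ι.hom.app V) := fun V => by
    haveI : Mono ι.hom := inferInstanceAs (Mono ((sheafToPresheaf _ _).map ι))
    exact (AddCommGrpCat.mono_iff_injective _).1 (inferInstanceAs (Mono (ι.hom.app V)))
  have hsmul : ∀ (V : Opens X) (s : (CohTop.const X (ULift.{u} ℤ)).obj.obj (op V)),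
      (d • 𝟙 (CohTop.const X (ULift.{u} ℤ))).hom.app (op V) s = d • s := fun V s => by
    have : (d • 𝟙 (CohTop.const X (ULift.{u} ℤ))).hom = d • (𝟙 _) :=
      Functor.map_zsmul (sheafToPresheaf _ _)
    rw [this]
    rfl
  set r := CohTop.restrFunctor U with hr
  have hle : ∀ W : Opens (TopCat.of U), U.isOpenEmbedding.isOpenMap.functor.obj W ≤ U := by
    rintro W _ ⟨y, -, rfl⟩
    exact y.2
  -- multiples of `d` are sections of the subsheaf
  have h1 : ∀ (V : Opens X), V ≤ U → ∀ s : (CohTop.const X (ULift.{u} ℤ)).obj.obj (op V),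
      ∃ a, ι.hom.app (op V) a = d • s := by
    intro V hVU s
    by_cases hV : ∃ x, x ∈ V
    · obtain ⟨n, rfl⟩ := exists_cst V s
      obtain ⟨a, ha⟩ := (key V hV hVU (n.down * d)).2 ⟨n.down, rfl⟩
      refine ⟨a, ha.trans ?_⟩
      rw [← map_zsmul]
      exact congrArg _ (ULift.ext _ _ (by simp [mul_comm]))
    · exact ⟨0, (map_zero _).trans (eq_zero_of_empty (fun x hx => hV ⟨x, hx⟩) _).symm⟩
  -- and conversely
  have h2 : ∀ (V : Opens X), V ≤ U → ∀ a, ∃ s, d • s = ι.hom.app (op V) a := by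
    intro V hVU a
    by_cases hV : ∃ x, x ∈ V
    · obtain ⟨n, hn⟩ := exists_cst V (ι.hom.app (op V) a)
      obtain ⟨k, hk⟩ := (key V hV hVU n.down).1 ⟨a, hn.symm⟩
      refine ⟨cst V ⟨k⟩, ?_⟩
      rw [← map_zsmul, ← hn]
      exact congrArg _ (ULift.ext _ _ (by simp [← hk, mul_comm]))
    · exact ⟨0, (smul_zero d).trans (eq_zero_of_empty (fun x hx => hV ⟨x, hx⟩) _).symm⟩
  obtain ⟨φ, hφ⟩ := exists_factor (r.map (d • 𝟙 (CohTop.const X (ULift.{u} ℤ)))) (r.map ι)
    (fun W => hinjι _) fun W s => by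
      obtain ⟨a, ha⟩ := h1 _ (hle W.unop) s
      exact ⟨a, ha.trans (hsmul _ s).symm⟩
  refine le_antisymm ?_ (hφ ▸ imageSubobject_comp_le φ _)
  by_cases hd0 : d = 0
  · have : r.map ι = 0 := by
      apply CategoryTheory.Sheaf.hom_ext
      ext W a
      obtain ⟨s, hs⟩ := h2 _ (hle W.unop) a
      exact hs.symm.trans (by rw [hd0, zero_smul]; rfl)
    rw [this, imageSubobject_zero]
    exact bot_le
  · have hinj : ∀ V : Opens X, ∀ s : (CohTop.const X (ULift.{u} ℤ)).obj.obj (op V),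
        d • s = 0 → s = 0 := by
      intro V s hs
      by_cases hV : ∃ x, x ∈ V
      · obtain ⟨n, rfl⟩ := exists_cst V s
        obtain ⟨x, hx⟩ := hV
        rw [← map_zsmul] at hs
        have := cst_injective hx (hs.trans (map_zero _).symm)
        have h0 : n = 0 := by
          have := congrArg ULift.down this
          simp only [ULift.smul_down, smul_eq_mul, ULift.zero_down, mul_eq_zero] at this
          exact ULift.ext _ _ (this.resolve_left hd0)
        rw [h0, map_zero]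
      · exact eq_zero_of_empty (fun x hx => hV ⟨x, hx⟩) _
    obtain ⟨ψ, hψ⟩ := exists_factor (r.map ι) (r.map (d • 𝟙 (CohTop.const X (ULift.{u} ℤ))))
      (fun W => by
        refine (injective_iff_map_eq_zero _).2 fun s hs => hinj _ s ?_
        exact (hsmul _ s).symm.trans hs) fun W a => by
      obtain ⟨s, hs⟩ := h2 _ (hle W.unop) a
      exact ⟨s, (hsmul _ s).trans hs⟩
    exact hψ ▸ imageSubobject_comp_le ψ _

end Groth.ConstIrr
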